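import Mathlib.RepresentationTheory.Homological.GroupCohomology.LowDegree
import Mathlib.RepresentationTheory.Rep.Res
open CategoryTheory MonoidAlgebra

noncomputable section
attribute [local instance 10000] Rep.hV2 MonoidAlgebra.instModule Prod.instModule
namespace CoflasqueAux

variable {Γ : Type} [Group Γ]

/-- every cocycle is a coboundary when H¹ vanishes -/
lemma exists_coboundary (A : Rep.{0} ℤ Γ) (h : Limits.IsZero (groupCohomology A 1))
    (f : Γ → A) (hf : ∀ a b, f (a * b) = A.ρ a (f b) + f a) :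
    ∃ c : A, ∀ g, f g = A.ρ g c - c := by
  have hmem : f ∈ groupCohomology.cocycles₁ A := by
    rw [groupCohomology.mem_cocycles₁_def]
    intro a b; rw [hf a b]; abel
  have := ModuleCat.subsingleton_of_isZero h
  have h0 : groupCohomology.H1π A ⟨f, hmem⟩ = 0 := Subsingleton.elim _ _
  rw [groupCohomology.H1π_eq_zero_iff] at h0
  obtain ⟨c, hc⟩ := h0
  refine ⟨c, fun g => ?_⟩
  have := congrFun hc g
  simpa using this.symm

lemma isZero_H1 (A : Rep.{0} ℤ Γ)
    (h : ∀ f : Γ → A, (∀ a b, f (a * b) = A.ρ a (f b) + f a) →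
      ∃ c : A, ∀ g, f g = A.ρ g c - c) : Limits.IsZero (groupCohomology A 1) := by
  rw [ModuleCat.isZero_iff_subsingleton]
  refine subsingleton_of_forall_eq 0 fun x => ?_
  induction x using groupCohomology.H1_induction_on with
  | _ f =>
    rw [groupCohomology.H1π_eq_zero_iff]
    obtain ⟨c, hc⟩ := h f (fun a b => by
      have h0 := (groupCohomology.mem_cocycles₁_def (A := A) f).1 f.2 a b
      exact sub_eq_zero.1 (by rw [← neg_eq_zero, ← h0]; abel))
    refine ⟨c, funext fun g => ?_⟩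
    simpa using (hc g).symm

lemma forward (Λ : Rep.{0} ℤ Γ)
    (h : ∀ Γ' : Subgroup Γ, Limits.IsZero (groupCohomology (Rep.res Γ'.subtype Λ) 1))
    (X : Type) [MulAction Γ X] (E : ShortComplex (Rep.{0} ℤ Γ)) (hE : E.ShortExact)
    (e₁ : E.X₁ ≅ Λ) (e₃ : E.X₃ ≅ Rep.ofMulAction ℤ Γ X) : Nonempty E.Splitting := by
  have hM := hE.map_of_exact (forget₂ (Rep.{0} ℤ Γ) (ModuleCat.{0} ℤ))
  have hinj : Function.Injective E.f.hom := hM.moduleCat_injective_f
  have hsurj : Function.Surjective E.g.hom := hM.moduleCat_surjective_g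
  have hex : ∀ y, E.g.hom y = 0 → ∃ z, E.f.hom z = y :=
    (ShortComplex.moduleCat_exact_iff _).1 hM.exact
  have hgf : ∀ z, E.g.hom (E.f.hom z) = 0 := fun z => congr($(E.zero).hom z)
  let b : X → E.X₃ := fun x => e₃.inv.hom (single x 1)
  have hb : ∀ (g : Γ) x, E.X₃.ρ g (b x) = b (g • x) := fun g x => by
    refine (Rep.hom_comm_apply e₃.inv g _).symm.trans ?_
    exact congrArg e₃.inv.hom (Representation.ofMulAction_single g x 1)
  have key : ∀ x : X, ∃ e : E.X₂, E.g.hom e = b x ∧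
      ∀ g : Γ, g • x = x → E.X₂.ρ g e = e := by
    intro x
    obtain ⟨e0, he0⟩ := hsurj (b x)
    have hz : ∀ g : MulAction.stabilizer Γ x, ∃ z, E.f.hom z = E.X₂.ρ (g : Γ) e0 - e0 :=
      fun g => hex _ (by rw [map_sub, Rep.hom_comm_apply, he0, hb, g.2, sub_self])
    choose z hz using hz
    have hzc : ∀ a b, z (a * b) = E.X₁.ρ (a : Γ) (z b) + z a := by
      intro a b
      apply hinj
      rw [map_add, Rep.hom_comm_apply, hz, hz, hz, map_sub, Subgroup.coe_mul, map_mul,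
        Module.End.mul_apply]
      abel
    obtain ⟨c, hc⟩ := exists_coboundary (Rep.res (MulAction.stabilizer Γ x).subtype Λ)
      (h _) (fun g => e₁.hom.hom (z g)) (fun a b => by
        show e₁.hom.hom (z (a * b)) = Λ.ρ (a : Γ) (e₁.hom.hom (z b)) + e₁.hom.hom (z a)
        rw [hzc, map_add, Rep.hom_comm_apply])
    refine ⟨e0 - E.f.hom (e₁.inv.hom c), by rw [map_sub, hgf, sub_zero, he0], fun g hg => ?_⟩
    have h1 : e₁.inv.hom (e₁.hom.hom (z ⟨g, hg⟩)) = z ⟨g, hg⟩ := by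
      have := congr($(e₁.hom_inv_id).hom (z ⟨g, hg⟩)); simpa using this
    have h2 : z ⟨g, hg⟩ = E.X₁.ρ g (e₁.inv.hom c) - e₁.inv.hom c := by
      rw [← h1, hc ⟨g, hg⟩, ← Rep.hom_comm_apply]
      exact map_sub _ _ _
    have h3 := hz ⟨g, hg⟩
    rw [h2, map_sub, Rep.hom_comm_apply] at h3
    rw [map_sub]
    linear_combination (norm := abel) -h3
  choose e he1 he2 using key
  let r : X → X := fun x =>
    (@Quotient.mk X (MulAction.orbitRel Γ X) x).out
  have hr : ∀ x, ∃ g : Γ, g • r x = x := fun x => by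
    have : x ∈ MulAction.orbit Γ (r x) := by
      have := @Quotient.mk_out X (MulAction.orbitRel Γ X) x
      exact MulAction.orbitRel_apply.1 ((MulAction.orbitRel Γ X).symm' this)
    exact this
  choose c hc using hr
  have hrinv : ∀ (g : Γ) x, r (g • x) = r x := fun g x => by
    simp only [r]
    congr 1
    exact Quotient.sound (MulAction.orbitRel_apply.2 (MulAction.mem_orbit _ _))
  let s0 : X → E.X₂ := fun x => E.X₂.ρ (c x) (e (r x))
  have hs0 : ∀ (g : Γ) x, E.X₂.ρ g (s0 x) = s0 (g • x) := fun g x => by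
    simp only [s0, hrinv]
    rw [← Module.End.mul_apply, ← map_mul]
    have h1 : ((c (g • x))⁻¹ * (g * c x)) • r x = r x := by
      rw [mul_smul, mul_smul, hc, inv_smul_eq_iff]
      conv_lhs => rw [← hc (g • x), hrinv]
    conv_rhs => rw [← he2 (r x) _ h1, ← Module.End.mul_apply, ← map_mul, mul_inv_cancel_left]
  let σl : ℤ[X] →ₗ[ℤ] E.X₂ := (MonoidAlgebra.basis X ℤ).constr ℕ s0
  have hσl : ∀ x, σl (single x 1) = s0 x := fun x => by
    exact Module.Basis.constr_basis _ ℕ _ x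
  let σ : Rep.ofMulAction ℤ Γ X ⟶ E.X₂ := Rep.ofHom ⟨σl, fun g => by
    refine (MonoidAlgebra.basis X ℤ).ext fun x => ?_
    simp [hσl, hs0]⟩
  refine ⟨ShortComplex.Splitting.ofExactOfSection E hE.exact (e₃.hom ≫ σ) ?_ hE.mono_f⟩
  rw [← cancel_epi e₃.inv]
  ext x
  simp [σ, hσl, s0, Rep.hom_comm_apply, he1, hb, hc, b]

lemma exists_cocycle_ext (H : Subgroup Γ) (Λ : Rep.{0} ℤ Γ) (f : H → Λ)
    (hf : ∀ a b, f (a * b) = Λ.ρ (a : Γ) (f b) + f a) :
    ∃ F : Γ → Γ ⧸ H → Λ, (∀ a b x, F (a * b) x = F a (b • x) + Λ.ρ a (F b x)) ∧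
      ∃ d : Λ, ∀ h : H, F (h : Γ) (QuotientGroup.mk 1) = f h + (Λ.ρ (h : Γ) d - d) := by
  let s : Γ ⧸ H → Γ := Quotient.out
  have hs : ∀ g x, (s (g • x))⁻¹ * (g * s x) ∈ H := fun g x => by
    rw [← QuotientGroup.eq, QuotientGroup.out_eq']
    conv_lhs => rw [← QuotientGroup.out_eq' x]
    rfl
  refine ⟨fun g x => Λ.ρ (s (g • x)) (f ⟨_, hs g x⟩), fun a b x => ?_, ?_⟩
  · have e : (⟨_, hs (a * b) x⟩ : H) = ⟨_, hs a (b • x)⟩ * ⟨_, hs b x⟩ := by
      ext; simp [mul_smul, mul_assoc]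
    dsimp only
    rw [e, hf, map_add, mul_smul, ← Module.End.mul_apply, ← map_mul,
      ← Module.End.mul_apply (Λ.ρ a), ← map_mul]
    rw [add_comm]
    congr 2
    simp [mul_assoc]
  · set s0 := s (QuotientGroup.mk 1) with hs0
    have hs0H : s0 ∈ H := by
      have := QuotientGroup.out_eq' (QuotientGroup.mk 1 : Γ ⧸ H)
      rw [QuotientGroup.eq] at this
      simpa [s0, s] using this
    refine ⟨f ⟨s0, hs0H⟩, fun h => ?_⟩
    have hx : (h : Γ) • (QuotientGroup.mk 1 : Γ ⧸ H) = QuotientGroup.mk 1 := by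
      rw [MulAction.Quotient.smul_mk, QuotientGroup.eq]; simp
    have e : (⟨_, hs (h : Γ) (QuotientGroup.mk 1)⟩ : H) =
        (⟨s0, hs0H⟩ : H)⁻¹ * (h * ⟨s0, hs0H⟩) := by
      ext; simp [hx, ← hs0]
    dsimp only
    rw [e, hx, ← hs0]
    have h1 : ∀ a b : H, Λ.ρ (a : Γ) (f b) = f (a * b) - f a := fun a b => by rw [hf a b]; abel
    show Λ.ρ ((⟨s0, hs0H⟩ : H) : Γ) (f _) = _
    rw [h1, mul_inv_cancel_left, h1]
    abel

lemma backward (Λ : Rep.{0} ℤ Γ) [Finite Γ]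
    (h : ∀ (X : Type) [MulAction Γ X] [Finite X] (E : ShortComplex (Rep.{0} ℤ Γ)),
        E.ShortExact → Nonempty (E.X₁ ≅ Λ) → Nonempty (E.X₃ ≅ Rep.ofMulAction ℤ Γ X) →
          Nonempty E.Splitting) (H : Subgroup Γ) :
    Limits.IsZero (groupCohomology (Rep.res H.subtype Λ) 1) := by
  refine isZero_H1 _ fun f hf => ?_
  obtain ⟨F, hF, d, hd⟩ := exists_cocycle_ext H Λ f hf
  let B := MonoidAlgebra.basis (Γ ⧸ H) ℤ
  let L : Γ → ℤ[Γ ⧸ H] →ₗ[ℤ] Λ := fun g => B.constr ℕ (F g)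
  have hL : ∀ g x, L g (single x 1) = F g x := fun g x => by
    exact Module.Basis.constr_basis _ ℕ _ x
  have hLmul : ∀ a b, L (a * b) = (L a) ∘ₗ (Representation.ofMulAction ℤ Γ (Γ ⧸ H) b) +
      (Λ.ρ a) ∘ₗ L b := fun a b => by
    refine B.ext fun x => ?_
    simp [B, hL, hF]
  have hL1 : L 1 = 0 := B.ext fun x => by
    have := hF 1 1 x
    simp only [one_mul, one_smul, map_one, Module.End.one_apply] at this
    simpa [B, hL] using this
  let ρ' : Representation ℤ Γ (Λ.V × ℤ[Γ ⧸ H]) :=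
  { toFun := fun g => (((Λ.ρ g) ∘ₗ LinearMap.fst ℤ _ _) + (L g) ∘ₗ LinearMap.snd ℤ _ _).prod
      ((Representation.ofMulAction ℤ Γ (Γ ⧸ H) g) ∘ₗ LinearMap.snd ℤ _ _)
    map_one' := by
      refine LinearMap.ext fun ⟨l, p⟩ => ?_
      simp [hL1]
    map_mul' := fun a b => by
      refine LinearMap.ext fun ⟨l, p⟩ => ?_
      simp [hLmul, add_comm, add_left_comm] }
  let i : Λ ⟶ Rep.of ρ' := Rep.ofHom ⟨LinearMap.inl ℤ _ _, fun g => by ext l <;> simp [ρ']⟩
  let p : Rep.of ρ' ⟶ Rep.ofMulAction ℤ Γ (Γ ⧸ H) :=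
    Rep.ofHom ⟨LinearMap.snd ℤ _ _, fun g => by refine LinearMap.ext fun x => ?_; simp [ρ']⟩
  have hip : i ≫ p = 0 := by ext l; rfl
  let E : ShortComplex (Rep.{0} ℤ Γ) := ShortComplex.mk i p hip
  have hE : E.ShortExact := by
    refine { exact := ?_, mono_f := ?_, epi_g := ?_ }
    · rw [← ShortComplex.exact_map_iff_of_faithful _ (forget₂ (Rep.{0} ℤ Γ) (ModuleCat.{0} ℤ)),
        ShortComplex.moduleCat_exact_iff]
      rintro ⟨l, q⟩ hq
      have hq' : q = 0 := hq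
      exact ⟨l, by subst hq'; rfl⟩
    · exact (Rep.mono_iff_injective _).2 fun a b hab => congrArg Prod.fst hab
    · exact (Rep.epi_iff_surjective _).2 fun q => ⟨(0, q), rfl⟩
  obtain ⟨S⟩ := h (Γ ⧸ H) E hE ⟨Iso.refl _⟩ ⟨Iso.refl _⟩
  let σ := S.s
  have hσ : ∀ q, (σ.hom q).2 = q := fun q => congr($(S.s_g).hom q)
  let a := (σ.hom (single (QuotientGroup.mk 1 : Γ ⧸ H) 1)).1
  refine ⟨-a - d, fun g => ?_⟩
  have hx : (g : Γ) • (QuotientGroup.mk 1 : Γ ⧸ H) = QuotientGroup.mk 1 := by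
    rw [MulAction.Quotient.smul_mk, QuotientGroup.eq]; simp
  have := congrArg Prod.fst (Rep.hom_comm_apply σ (g : Γ) (single (QuotientGroup.mk 1 : Γ ⧸ H) 1))
  simp [E, ρ', hσ, hL, hd, hx] at this
  show f g = Λ.ρ (g : Γ) (-a - d) - (-a - d)
  rw [map_sub, map_neg]
  simp only [a]
  linear_combination (norm := abel) -this

end CoflasqueAux
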